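import Mathlib.RingTheory.Ideal.AssociatedPrime.Finiteness
import Mathlib.RingTheory.LocalRing.ResidueField.Ideal
import Mathlib.RingTheory.Flat.Basic
import Mathlib.LinearAlgebra.TensorProduct.RightExactness
import Mathlib.LinearAlgebra.TensorProduct.Prod
import Mathlib.LinearAlgebra.TensorProduct.Finiteness

/-!
# Exactness of flat complexes can be tested at residue fields
-/

set_option autoImplicit false

universe u

open TensorProduct

namespace Groth.Agent.ResExact

variable {A : Type u} [CommRing A]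

/-- Exactness of `N ⊗ X` at `X (i+1)`. -/
def Ex {X : ℕ → Type u} [∀ i, AddCommGroup (X i)] [∀ i, Module A (X i)]
    (d : ∀ i, X (i + 1) →ₗ[A] X i) (N : Type u) [AddCommGroup N] [Module A N] (i : ℕ) : Prop :=
  Function.Exact ((d (i + 1)).lTensor N) ((d i).lTensor N)

variable {X : ℕ → Type u} [∀ i, AddCommGroup (X i)] [∀ i, Module A (X i)] [∀ i, Module.Flat A (X i)]
  {d : ∀ i, X (i + 1) →ₗ[A] X i}

section ses

variable {N N₁ N₂ : Type u} [AddCommGroup N] [Module A N] [AddCommGroup N₁] [Module A N₁]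
  [AddCommGroup N₂] [Module A N₂]

omit [∀ i, Module.Flat A (X i)] in
theorem nat (f : N →ₗ[A] N₁) (i : ℕ) (x : N ⊗[A] X (i + 1)) :
    (d i).lTensor N₁ (f.rTensor _ x) = f.rTensor _ ((d i).lTensor N x) := by
  rw [← LinearMap.comp_apply, LinearMap.lTensor_comp_rTensor, ← LinearMap.rTensor_comp_lTensor, LinearMap.comp_apply]

omit [∀ i, Module.Flat A (X i)] in
theorem d_d (hd : ∀ i, d i ∘ₗ d (i + 1) = 0) (i : ℕ) (x : N ⊗[A] X (i + 1 + 1)) :
    (d i).lTensor N ((d (i + 1)).lTensor N x) = 0 := by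
  rw [← LinearMap.comp_apply, ← LinearMap.lTensor_comp, hd, LinearMap.lTensor_zero, LinearMap.zero_apply]

omit [∀ i, Module.Flat A (X i)] in
theorem ex_of_ker_le (hd : ∀ i, d i ∘ₗ d (i + 1) = 0) (i : ℕ)
    (h : ∀ z, (d i).lTensor N z = 0 → ∃ w, (d (i + 1)).lTensor N w = z) : Ex d N i := fun z =>
  ⟨fun hz => h z hz, by rintro ⟨w, rfl⟩; exact d_d hd i w⟩

theorem ex_of_ses (hd : ∀ i, d i ∘ₗ d (i + 1) = 0) {f : N₁ →ₗ[A] N} {g : N →ₗ[A] N₂}
    (hf : Function.Injective f) (hfg : Function.Exact f g) (hg : Function.Surjective g) (i : ℕ)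
    (h₁ : Ex d N₁ i) (h₂ : Ex d N₂ i) : Ex d N i := by
  refine ex_of_ker_le hd i fun z hz => ?_
  obtain ⟨w₂, hw₂⟩ := (h₂ (g.rTensor _ z)).1 (by rw [nat, hz, map_zero])
  obtain ⟨w, rfl⟩ := LinearMap.rTensor_surjective _ hg w₂
  rw [nat] at hw₂
  obtain ⟨y, hy⟩ := (rTensor_exact (X (i + 1)) hfg hg (z - (d (i + 1)).lTensor N w)).1
    (by rw [map_sub, hw₂, sub_self])
  have hy0 : (d i).lTensor N₁ y = 0 :=
    Module.Flat.rTensor_preserves_injective_linearMap (M := X i) f hf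
      (by rw [← nat, hy, map_sub, hz, d_d hd, sub_zero, map_zero])
  obtain ⟨v, rfl⟩ := (h₁ y).1 hy0
  exact ⟨f.rTensor _ v + w, by rw [map_add, nat, hy, sub_add_cancel]⟩

theorem ex_sub_of_ses (hd : ∀ i, d i ∘ₗ d (i + 1) = 0) {f : N₁ →ₗ[A] N} {g : N →ₗ[A] N₂}
    (hf : Function.Injective f) (hfg : Function.Exact f g) (hg : Function.Surjective g) (i : ℕ)
    (h : Ex d N i) (h₂ : Ex d N₂ (i + 1)) : Ex d N₁ i := by
  refine ex_of_ker_le hd i fun y hy => ?_
  obtain ⟨w, hw⟩ := (h (f.rTensor _ y)).1 (by rw [nat, hy, map_zero])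
  obtain ⟨v₂, hv₂⟩ := (h₂ (g.rTensor _ w)).1 (by
    rw [nat, hw, ← LinearMap.rTensor_comp_apply, hfg.linearMap_comp_eq_zero, LinearMap.rTensor_zero,
      LinearMap.zero_apply])
  obtain ⟨v, rfl⟩ := LinearMap.rTensor_surjective _ hg v₂
  rw [nat] at hv₂
  obtain ⟨t, ht⟩ := (rTensor_exact (X (i + 1 + 1)) hfg hg (w - (d (i + 1 + 1)).lTensor N v)).1
    (by rw [map_sub, hv₂, sub_self])
  refine ⟨t, Module.Flat.rTensor_preserves_injective_linearMap (M := X (i + 1)) f hf ?_⟩
  rw [← nat, ht, map_sub, d_d hd, sub_zero, hw]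

theorem ex_of_fg (hd : ∀ i, d i ∘ₗ d (i + 1) = 0) (i : ℕ)
    (h : ∀ N₀ : Submodule A N, N₀.FG → Ex d N₀ i) : Ex d N i := by
  classical
  refine ex_of_ker_le hd i fun z hz => ?_
  obtain ⟨S, rfl⟩ := TensorProduct.exists_finset z
  let N₀ : Submodule A N := Submodule.span A ((S.image Prod.fst : Finset N) : Set N)
  let z₀ : N₀ ⊗[A] X (i + 1) :=
    ∑ p ∈ S.attach, (⟨p.1.1, Submodule.subset_span (Finset.mem_image_of_mem _ p.2)⟩ : N₀) ⊗ₜ[A] p.1.2
  have hz₀ : N₀.subtype.rTensor _ z₀ = ∑ p ∈ S, p.1 ⊗ₜ[A] p.2 := by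
    rw [map_sum]
    exact (Finset.sum_attach S fun p => p.1 ⊗ₜ[A] p.2)
  have h0 : (d i).lTensor N₀ z₀ = 0 :=
    Module.Flat.rTensor_preserves_injective_linearMap (M := X i) N₀.subtype N₀.injective_subtype
      (by rw [← nat, hz₀, hz, map_zero])
  obtain ⟨w, hw⟩ := (h N₀ ⟨_, rfl⟩ z₀).1 h0
  exact ⟨N₀.subtype.rTensor _ w, by rw [nat, hw, hz₀]⟩

theorem ex_of_subsingleton [Subsingleton N] (i : ℕ) : Ex d N i := fun _ =>
  ⟨fun _ => ⟨0, Subsingleton.elim _ _⟩, fun _ => Subsingleton.elim _ _⟩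

theorem ex_of_linearEquiv (hd : ∀ i, d i ∘ₗ d (i + 1) = 0) (e : N ≃ₗ[A] N₁) (i : ℕ) (h : Ex d N₁ i) :
    Ex d N i := by
  refine ex_of_ker_le hd i fun z hz => ?_
  obtain ⟨w, hw⟩ := (h (e.toLinearMap.rTensor _ z)).1 (by rw [nat, hz, map_zero])
  refine ⟨e.symm.toLinearMap.rTensor _ w, ?_⟩
  rw [nat, hw, ← LinearMap.rTensor_comp_apply,
    show e.symm.toLinearMap ∘ₗ e.toLinearMap = LinearMap.id from LinearMap.ext e.symm_apply_apply,
    LinearMap.rTensor_id, LinearMap.id_apply]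

end ses

/-- A flat complex exact in degrees `≥ n` at every residue field is exact in those degrees after tensoring
with any module. -/
theorem ex_of_residueField [IsNoetherianRing A] (hd : ∀ i, d i ∘ₗ d (i + 1) = 0) (n : ℕ)
    (h : ∀ (p : Ideal A) [p.IsPrime] (i : ℕ), n ≤ i → Ex d p.ResidueField i)
    (N : Type u) [AddCommGroup N] [Module A N] (i : ℕ) (hi : n ≤ i) : Ex d N i := by
  -- quotients by primes
  have hprime : ∀ (p : PrimeSpectrum A) (i : ℕ), n ≤ i → Ex d (A ⧸ p.asIdeal) i := by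
    intro p
    refine WellFoundedGT.induction (motive := fun I : Ideal A => ∀ (_ : I.IsPrime) (i : ℕ), n ≤ i → Ex d (A ⧸ I) i)
      p.asIdeal ?_ p.2
    intro P ih hP i hi
    haveI := hP
    let f : (A ⧸ P) →ₗ[A] P.ResidueField := (IsScalarTower.toAlgHom A (A ⧸ P) P.ResidueField).toLinearMap
    have hf : Function.Injective f := IsFractionRing.injective (A ⧸ P) P.ResidueField
    refine ex_sub_of_ses hd hf (LinearMap.exact_map_mkQ_range f) (Submodule.mkQ_surjective _) i (h P i hi)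
      (ex_of_fg hd (i + 1) fun N₀ hN₀ => ?_)
    haveI : Module.Finite A N₀ := Module.Finite.iff_fg.2 hN₀
    -- some element outside `P` kills `N₀`
    have htor : ∀ x : P.ResidueField ⧸ LinearMap.range f, ∃ s ∉ P, s • x = 0 := by
      intro x
      obtain ⟨x, rfl⟩ := Submodule.mkQ_surjective _ x
      obtain ⟨a, b, hb, rfl⟩ := IsFractionRing.div_surjective (A := A ⧸ P) x
      obtain ⟨b, rfl⟩ := Ideal.Quotient.mk_surjective b
      have hb0 : (Ideal.Quotient.mk P b : A ⧸ P) ≠ 0 := nonZeroDivisors.ne_zero hb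
      refine ⟨b, fun hbP => hb0 (Ideal.Quotient.eq_zero_iff_mem.2 hbP), ?_⟩
      rw [Submodule.mkQ_apply, ← Submodule.Quotient.mk_smul, Submodule.Quotient.mk_eq_zero]
      refine ⟨a, ?_⟩
      show algebraMap (A ⧸ P) P.ResidueField a = _
      rw [Algebra.smul_def, IsScalarTower.algebraMap_apply A (A ⧸ P) P.ResidueField, Ideal.Quotient.algebraMap_eq,
        mul_div_cancel₀]
      exact (map_ne_zero_iff _ (IsFractionRing.injective (A ⧸ P) P.ResidueField)).2 hb0
    choose s hsP hs using htor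
    obtain ⟨S, hS⟩ := hN₀
    let s₀ : A := ∏ x ∈ S, s x
    have hs₀ : s₀ ∉ P := fun hmem => by
      obtain ⟨x, -, hx⟩ := (Ideal.IsPrime.prod_mem_iff (p := P)).1 hmem
      exact hsP x hx
    have hall : ∀ z ∈ Submodule.span A (S : Set (P.ResidueField ⧸ LinearMap.range f)), s₀ • z = 0 := by
      intro z hz
      induction hz using Submodule.span_induction with
      | mem x hx =>
        obtain ⟨c', hc'⟩ := Finset.dvd_prod_of_mem s (Finset.mem_coe.1 hx)
        rw [show s₀ = s x * c' from hc', mul_comm, mul_smul, hs, smul_zero]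
      | zero => rw [smul_zero]
      | add a b _ _ ha hb => rw [smul_add, ha, hb, add_zero]
      | smul r a _ ha => rw [smul_comm, ha, smul_zero]
    have hann : ∀ a ∈ P ⊔ Ideal.span {s₀}, ∀ y : N₀, a • y = 0 := by
      intro a ha y
      obtain ⟨p₀, hp₀, q, hq, rfl⟩ := Submodule.mem_sup.1 ha
      obtain ⟨c, rfl⟩ := Ideal.mem_span_singleton'.1 hq
      have hPkill : p₀ • y = 0 := by
        refine Subtype.ext ?_
        show p₀ • (y : P.ResidueField ⧸ LinearMap.range f) = 0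
        obtain ⟨z, hz⟩ := Submodule.mkQ_surjective _ (y : P.ResidueField ⧸ LinearMap.range f)
        rw [← hz, ← map_smul, Algebra.smul_def, Ideal.algebraMap_residueField_eq_zero.2 hp₀, zero_mul, map_zero]
      have hskill : s₀ • y = 0 := Subtype.ext (hall y.1 (hS.symm ▸ y.2))
      rw [add_smul, hPkill, mul_smul, hskill, smul_zero, zero_add]
    refine IsNoetherianRing.induction_on_isQuotientEquivQuotientPrime
      (motive := fun M => (∀ a ∈ P ⊔ Ideal.span {s₀}, ∀ y : M, a • y = 0) → Ex d M (i + 1)) A inferInstance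
      (fun M => fun _ => ex_of_subsingleton _) (fun M _ _ _ q e hM => ?_)
      (fun M₁ _ _ _ M₂ _ _ _ M₃ _ _ _ f g hf hg hfg h₁ h₃ hM => ?_) hann
    · have hle : P ⊔ Ideal.span {s₀} ≤ q.asIdeal := fun a ha => by
        have h1 := hM a ha (e.symm 1)
        rw [← map_smul, LinearEquiv.map_eq_zero_iff, Algebra.smul_def, mul_one, Ideal.Quotient.algebraMap_eq,
          Ideal.Quotient.eq_zero_iff_mem] at h1
        exact h1
      have hlt : P < q.asIdeal := lt_of_lt_of_le
        (left_lt_sup.2 fun hle' => hs₀ (hle' (Ideal.mem_span_singleton_self s₀))) hle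
      exact ex_of_linearEquiv hd e _ (ih q.asIdeal hlt q.2 (i + 1) (by omega))
    · refine ex_of_ses hd hf hfg hg _ (h₁ fun a ha y => hf (by rw [map_smul, hM a ha, map_zero]))
        (h₃ fun a ha y => ?_)
      obtain ⟨y, rfl⟩ := hg y
      rw [← map_smul, hM a ha, map_zero]
  refine ex_of_fg hd i fun N₀ hN₀ => ?_
  haveI : Module.Finite A N₀ := Module.Finite.iff_fg.2 hN₀
  exact IsNoetherianRing.induction_on_isQuotientEquivQuotientPrime (motive := fun M => Ex d M i) A inferInstance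
    (fun M => ex_of_subsingleton _) (fun M _ _ _ q e => ex_of_linearEquiv hd e _ (hprime q i hi))
    (fun M₁ _ _ _ M₂ _ _ _ M₃ _ _ _ f g hf hg hfg h₁ h₃ => ex_of_ses hd hf hfg hg _ h₁ h₃)

omit [∀ i, Module.Flat A (X i)] in
/-- Exactness after tensoring with the ring itself is exactness. -/
theorem exact_of_ex_self (i : ℕ) (h : Ex d A i) : Function.Exact (d (i + 1)) (d i) := by
  have key : ∀ j x, (d j).lTensor A ((TensorProduct.lid A (X (j + 1))).symm x) =
      (TensorProduct.lid A (X j)).symm (d j x) := fun j x => rfl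
  intro x
  constructor
  · intro hx
    obtain ⟨w, hw⟩ := (h ((TensorProduct.lid A (X (i + 1))).symm x)).1 (by rw [key, hx, map_zero])
    refine ⟨TensorProduct.lid A _ w, (TensorProduct.lid A (X (i + 1))).symm.injective ?_⟩
    rw [← key, LinearEquiv.symm_apply_apply, hw]
  · rintro ⟨w, rfl⟩
    apply (TensorProduct.lid A (X i)).symm.injective
    rw [map_zero, ← key, ← key]
    exact (h _).2 ⟨_, rfl⟩

end Groth.Agent.ResExact
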