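import Groth.Agent.Lib.ResExact.Basic
import Groth.Agent.Lib.FlatSyz.TorDim

/-!
# Tor and complexes of flat modules
-/

set_option autoImplicit false

universe u

open CategoryTheory CategoryTheory.Limits MonoidalCategory TensorProduct
open Groth.Agent.FlatSyz

namespace Groth.Agent.ResExact

variable {A : Type u} [CommRing A]

theorem dLin_comp {M : ModuleCat.{u} A} (Pr : ProjectiveResolution M) (i : ℕ) :
    dLin Pr i ∘ₗ dLin Pr (i + 1) = 0 :=
  LinearMap.ext fun x => (dLin_exact Pr i).apply_apply_eq_zero x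

theorem isZero_tor_iff_ex {M : ModuleCat.{u} A} (Pr : ProjectiveResolution M) (N : Type u) [AddCommGroup N]
    [Module A N] (i : ℕ) :
    IsZero (((Tor (ModuleCat.{u} A) (i + 1)).obj (ModuleCat.of A N)).obj M) ↔ Ex (X := fun i => Pr.complex.X i) (dLin Pr) N i := by
  refine (Iso.isZero_iff (Pr.isoLeftDerivedObj ((tensoringLeft (ModuleCat.{u} A)).obj (ModuleCat.of A N)) (i + 1))).trans ?_
  change IsZero (HomologicalComplex.homology _ (i + 1)) ↔ _
  rw [← HomologicalComplex.exactAt_iff_isZero_homology,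
    HomologicalComplex.exactAt_iff' _ (i + 2) (i + 1) i (by simp) (by simp),
    ShortComplex.moduleCat_exact_iff]
  exact ⟨fun h z => ⟨fun hz => h z hz, fun ⟨w, hw⟩ => hw ▸ d_d (X := fun i => Pr.complex.X i) (d := dLin Pr) (dLin_comp Pr) i w⟩,
    fun h z hz => (h z).1 hz⟩

/-- Elements of the homology of a short complex of modules and their functoriality. -/
theorem homologyMap_elements {S T : ShortComplex (ModuleCat.{u} A)} (φ : S ⟶ T)
    [IsIso (ShortComplex.homologyMap φ)] :
    (∀ x, S.g x = 0 → φ.τ₂ x ∈ LinearMap.range T.f.hom → x ∈ LinearMap.range S.f.hom) ∧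
      ∀ z, T.g z = 0 → ∃ x, S.g x = 0 ∧ z - φ.τ₂ x ∈ LinearMap.range T.f.hom := by
  let cls : ∀ (U : ShortComplex (ModuleCat.{u} A)), LinearMap.ker U.g.hom →ₗ[A] U.homology := fun U =>
    U.homologyπ.hom ∘ₗ U.moduleCatCyclesIso.inv.hom
  have hcls : ∀ (U : ShortComplex (ModuleCat.{u} A)) x, cls U x =
      U.moduleCatHomologyIso.inv (U.moduleCatLeftHomologyData.π x) := fun U x =>
    ShortComplex.moduleCatCyclesIso_inv_π_apply U x
  have hzero : ∀ (U : ShortComplex (ModuleCat.{u} A)) x, cls U x = 0 ↔ x.1 ∈ LinearMap.range U.f.hom := by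
    intro U x
    rw [hcls, map_eq_zero_iff _ ((ModuleCat.mono_iff_injective U.moduleCatHomologyIso.inv).1 inferInstance)]
    show (Submodule.Quotient.mk x : _ ⧸ LinearMap.range U.moduleCatToCycles) = 0 ↔ _
    rw [Submodule.Quotient.mk_eq_zero]
    exact ⟨fun ⟨w, hw⟩ => ⟨w, congrArg Subtype.val hw⟩, fun ⟨w, hw⟩ => ⟨w, Subtype.ext hw⟩⟩
  have hsurj : ∀ (U : ShortComplex (ModuleCat.{u} A)) (c : U.homology), ∃ x, cls U x = c := by
    intro U c
    obtain ⟨d, rfl⟩ := (ModuleCat.epi_iff_surjective U.moduleCatHomologyIso.inv).1 inferInstance c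
    obtain ⟨x, rfl⟩ := Submodule.mkQ_surjective _ d
    exact ⟨x, hcls U x⟩
  have hmap : ∀ x : LinearMap.ker S.g.hom, ∀ h : φ.τ₂ x.1 ∈ LinearMap.ker T.g.hom,
      ShortComplex.homologyMap φ (cls S x) = cls T ⟨φ.τ₂ x.1, h⟩ := by
    intro x h
    show ShortComplex.homologyMap φ (S.homologyπ (S.moduleCatCyclesIso.inv x)) = _
    rw [← ConcreteCategory.comp_apply S.homologyπ, ShortComplex.homologyπ_naturality, ConcreteCategory.comp_apply]
    refine congrArg T.homologyπ ((ModuleCat.mono_iff_injective T.iCycles).1 inferInstance ?_)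
    rw [← ConcreteCategory.comp_apply (ShortComplex.cyclesMap φ), ShortComplex.cyclesMap_i,
      ConcreteCategory.comp_apply, ShortComplex.moduleCatCyclesIso_inv_iCycles_apply]
    exact (T.moduleCatCyclesIso_inv_iCycles_apply (⟨φ.τ₂ x.1, h⟩ : LinearMap.ker T.g.hom)).symm
  have hcyc : ∀ x, S.g x = 0 → T.g (φ.τ₂ x) = 0 := fun x hx => by
    rw [← ConcreteCategory.comp_apply, φ.comm₂₃, ConcreteCategory.comp_apply, hx, map_zero]
  refine ⟨fun x hx hT => ?_, fun z hz => ?_⟩
  · have h1 : ShortComplex.homologyMap φ (cls S ⟨x, hx⟩) = 0 := by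
      rw [hmap ⟨x, hx⟩ (hcyc x hx)]; exact (hzero T _).2 hT
    exact (hzero S ⟨x, hx⟩).1 ((ModuleCat.mono_iff_injective (ShortComplex.homologyMap φ)).1 inferInstance
      (h1.trans (map_zero _).symm))
  · obtain ⟨c, hc⟩ := (ModuleCat.epi_iff_surjective (ShortComplex.homologyMap φ)).1 inferInstance
      (cls T ⟨z, hz⟩)
    obtain ⟨⟨x, hx⟩, rfl⟩ := hsurj S c
    rw [hmap ⟨x, hx⟩ (hcyc x hx)] at hc
    refine ⟨x, hx, (hzero T ⟨z - φ.τ₂ x, ?_⟩).1 ?_⟩
    · show T.g (z - φ.τ₂ x) = 0
      rw [map_sub, hz, hcyc x hx, sub_zero]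
    · have e : (⟨z - φ.τ₂ x, _⟩ : LinearMap.ker T.g.hom) = ⟨z, hz⟩ - ⟨φ.τ₂ x, hcyc x hx⟩ := rfl
      exact (congrArg (cls T) e).trans ((map_sub (cls T) _ _).trans (sub_eq_zero.2 hc.symm))

section cone

variable {M N : ModuleCat.{u} A} (P : ProjectiveResolution M) (Q : ProjectiveResolution N) (φ : P.complex ⟶ Q.complex)

/-- The terms of the cone of `φ`, shifted up by one. -/
def coneX : ℕ → Type u
  | 0 => PUnit.{u + 1}
  | 1 => Q.complex.X 0
  | (k + 2) => P.complex.X k × Q.complex.X (k + 1)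

noncomputable instance coneGroup : ∀ i, AddCommGroup (coneX P Q i)
  | 0 => inferInstanceAs (AddCommGroup PUnit)
  | 1 => inferInstanceAs (AddCommGroup (Q.complex.X 0))
  | (k + 2) => inferInstanceAs (AddCommGroup (P.complex.X k × Q.complex.X (k + 1)))

noncomputable instance coneModule : ∀ i, Module A (coneX P Q i)
  | 0 => inferInstanceAs (Module A PUnit)
  | 1 => inferInstanceAs (Module A (Q.complex.X 0))
  | (k + 2) => inferInstanceAs (Module A (P.complex.X k × Q.complex.X (k + 1)))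

instance coneFlat : ∀ i, Module.Flat A (coneX P Q i)
  | 0 => inferInstanceAs (Module.Flat A PUnit)
  | 1 => flat_X Q 0
  | (k + 2) =>
    haveI := flat_X P k
    haveI := flat_X Q (k + 1)
    inferInstanceAs (Module.Flat A (P.complex.X k × Q.complex.X (k + 1)))

/-- The differential of the cone. -/
noncomputable def coneD : ∀ i, coneX P Q (i + 1) →ₗ[A] coneX P Q i
  | 0 => 0
  | 1 => (φ.f 0).hom.coprod (dLin Q 0)
  | (k + 2) => LinearMap.prod (-(dLin P k ∘ₗ LinearMap.fst A _ _))
      ((φ.f (k + 1)).hom.coprod (dLin Q (k + 1)))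

theorem phi_comm (k : ℕ) (x : P.complex.X (k + 1)) :
    dLin Q k ((φ.f (k + 1)).hom x) = (φ.f k).hom (dLin P k x) :=
  LinearMap.congr_fun (congrArg ModuleCat.Hom.hom (φ.comm (k + 1) k)) x

theorem coneD_comp : ∀ i, coneD P Q φ i ∘ₗ coneD P Q φ (i + 1) = 0
  | 0 => LinearMap.zero_comp _
  | 1 => LinearMap.ext fun (x : P.complex.X 1 × Q.complex.X 2) => by
    show (φ.f 0).hom (-(dLin P 0 x.1)) + dLin Q 0 ((φ.f 1).hom x.1 + dLin Q 1 x.2) = 0
    rw [map_neg, map_add, phi_comm, (dLin_exact Q 0).apply_apply_eq_zero, add_zero, neg_add_cancel]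
  | (k + 2) => LinearMap.ext fun (x : P.complex.X (k + 2) × Q.complex.X (k + 3)) => by
    refine Prod.ext ?_ ?_
    · show -(dLin P k (-(dLin P (k + 1) x.1))) = 0
      rw [map_neg, neg_neg, (dLin_exact P k).apply_apply_eq_zero]
    · show (φ.f (k + 1)).hom (-(dLin P (k + 1) x.1)) + dLin Q (k + 1) ((φ.f (k + 2)).hom x.1 + dLin Q (k + 2) x.2) = 0
      rw [map_neg, map_add, phi_comm, (dLin_exact Q (k + 1)).apply_apply_eq_zero, add_zero, neg_add_cancel]

theorem tensor_prod_decomp (K : Type u) [AddCommGroup K] [Module A K] {U V : Type u} [AddCommGroup U] [Module A U]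
    [AddCommGroup V] [Module A V] (z : K ⊗[A] (U × V)) :
    z = (LinearMap.inl A U V).lTensor K ((LinearMap.fst A U V).lTensor K z) +
      (LinearMap.inr A U V).lTensor K ((LinearMap.snd A U V).lTensor K z) := by
  induction z with
  | zero => simp
  | add a b ha hb => simp only [map_add]; rw [add_add_add_comm, ← ha, ← hb]
  | tmul k p => simp [← TensorProduct.tmul_add]

/-- If `φ` is a quasi-isomorphism after tensoring with `K`, the cone becomes exact. -/
theorem ex_cone (K : Type u) [AddCommGroup K] [Module A K]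
    (hinj : ∀ k (a : K ⊗[A] P.complex.X (k + 1)), (dLin P k).lTensor K a = 0 →
      ∀ b, (dLin Q (k + 1)).lTensor K b = (φ.f (k + 1)).hom.lTensor K a → ∃ a', (dLin P (k + 1)).lTensor K a' = a)
    (hinj0 : ∀ (a : K ⊗[A] P.complex.X 0) b, (dLin Q 0).lTensor K b = (φ.f 0).hom.lTensor K a →
      ∃ a', (dLin P 0).lTensor K a' = a)
    (hsurj : ∀ k (z : K ⊗[A] Q.complex.X (k + 1)), (dLin Q k).lTensor K z = 0 →
      ∃ c, (dLin P k).lTensor K c = 0 ∧ ∃ q, (dLin Q (k + 1)).lTensor K q = z - (φ.f (k + 1)).hom.lTensor K c)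
    (hsurj0 : ∀ z : K ⊗[A] Q.complex.X 0, ∃ c, ∃ q, (dLin Q 0).lTensor K q = z - (φ.f 0).hom.lTensor K c) :
    ∀ i, Ex (coneD P Q φ) K i := by
  intro i
  refine ex_of_ker_le (coneD_comp P Q φ) i ?_
  match i with
  | 0 =>
    intro z _
    obtain ⟨c, q, hq⟩ := hsurj0 z
    refine ⟨(LinearMap.inl A (P.complex.X 0) (Q.complex.X 1)).lTensor K c +
      (LinearMap.inr A (P.complex.X 0) (Q.complex.X 1)).lTensor K q, ?_⟩
    show ((φ.f 0).hom.coprod (dLin Q 0)).lTensor K _ = z
    rw [map_add, ← LinearMap.lTensor_comp_apply, ← LinearMap.lTensor_comp_apply, LinearMap.coprod_inl,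
      LinearMap.coprod_inr, hq, add_sub_cancel]
  | j + 1 =>
    -- both remaining kinds of degree share the treatment of the second component
    have step : ∀ (k : ℕ) (a : K ⊗[A] P.complex.X k) (b : K ⊗[A] Q.complex.X (k + 1))
        (a' : K ⊗[A] P.complex.X (k + 1)), (dLin P k).lTensor K a' = a →
        (φ.f k).hom.lTensor K a + (dLin Q k).lTensor K b = 0 →
        ∃ w : K ⊗[A] (P.complex.X (k + 1) × Q.complex.X (k + 2)),
          (LinearMap.prod (-(dLin P k ∘ₗ LinearMap.fst A _ _))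
            ((φ.f (k + 1)).hom.coprod (dLin Q (k + 1)))).lTensor K w =
          (LinearMap.inl A (P.complex.X k) (Q.complex.X (k + 1))).lTensor K a +
            (LinearMap.inr A (P.complex.X k) (Q.complex.X (k + 1))).lTensor K b := by
      intro k a b a' ha' hb
      have hc : (dLin Q k).lTensor K ((φ.f (k + 1)).hom.lTensor K a') = (φ.f k).hom.lTensor K a := by
        rw [← ha', ← LinearMap.lTensor_comp_apply, ← LinearMap.lTensor_comp_apply,
          show dLin Q k ∘ₗ (φ.f (k + 1)).hom = (φ.f k).hom ∘ₗ dLin P k from LinearMap.ext (phi_comm P Q φ k)]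
      obtain ⟨c, hc0, q, hq⟩ := hsurj k (b + (φ.f (k + 1)).hom.lTensor K a')
        (by rw [map_add, hc, add_comm, hb])
      refine ⟨(LinearMap.inl A (P.complex.X (k + 1)) (Q.complex.X (k + 2))).lTensor K (c - a') +
        (LinearMap.inr A (P.complex.X (k + 1)) (Q.complex.X (k + 2))).lTensor K q, ?_⟩
      rw [map_add, ← LinearMap.lTensor_comp_apply, ← LinearMap.lTensor_comp_apply]
      rw [show (LinearMap.prod (-(dLin P k ∘ₗ LinearMap.fst A _ _))
            ((φ.f (k + 1)).hom.coprod (dLin Q (k + 1)))) ∘ₗ LinearMap.inl A (P.complex.X (k + 1)) (Q.complex.X (k + 2)) =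
            LinearMap.inl A (P.complex.X k) (Q.complex.X (k + 1)) ∘ₗ (-dLin P k) +
              LinearMap.inr A (P.complex.X k) (Q.complex.X (k + 1)) ∘ₗ (φ.f (k + 1)).hom by
          ext x <;> simp,
        show (LinearMap.prod (-(dLin P k ∘ₗ LinearMap.fst A _ _))
            ((φ.f (k + 1)).hom.coprod (dLin Q (k + 1)))) ∘ₗ LinearMap.inr A (P.complex.X (k + 1)) (Q.complex.X (k + 2)) =
            LinearMap.inr A (P.complex.X k) (Q.complex.X (k + 1)) ∘ₗ dLin Q (k + 1) by
          ext x <;> simp,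
        LinearMap.lTensor_add, LinearMap.add_apply, LinearMap.lTensor_comp_apply, LinearMap.lTensor_comp_apply,
        LinearMap.lTensor_comp_apply, LinearMap.lTensor_neg, LinearMap.neg_apply, map_sub, hc0, ha', zero_sub,
        neg_neg, hq, add_assoc, ← map_add]
      congr 2
      rw [map_sub]
      abel
    match j with
    | 0 =>
      intro z hz
      have hz' : (φ.f 0).hom.lTensor K ((LinearMap.fst A _ _).lTensor K z) +
          (dLin Q 0).lTensor K ((LinearMap.snd A _ _).lTensor K z) = 0 := by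
        rw [← LinearMap.lTensor_comp_apply, ← LinearMap.lTensor_comp_apply, ← LinearMap.add_apply,
          ← LinearMap.lTensor_add]
        exact hz
      obtain ⟨a', ha'⟩ := hinj0 _ (-((LinearMap.snd A _ _).lTensor K z))
        (by rw [map_neg]; exact (eq_neg_of_add_eq_zero_left hz').symm)
      obtain ⟨w, hw⟩ := step 0 _ _ a' ha' hz'
      exact ⟨w, hw.trans (tensor_prod_decomp K z).symm⟩
    | k + 1 =>
      intro z hz
      have h1 := congrArg ((LinearMap.fst A (P.complex.X k) (Q.complex.X (k + 1))).lTensor K) hz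
      have h2 := congrArg ((LinearMap.snd A (P.complex.X k) (Q.complex.X (k + 1))).lTensor K) hz
      have h1' : (dLin P k).lTensor K ((LinearMap.fst A _ _).lTensor K z) = 0 := by
        have e : (LinearMap.fst A (P.complex.X k) (Q.complex.X (k + 1))).lTensor K
            ((LinearMap.prod (-(dLin P k ∘ₗ LinearMap.fst A _ _))
              ((φ.f (k + 1)).hom.coprod (dLin Q (k + 1)))).lTensor K z) = 0 := h1.trans (map_zero _)
        rw [← LinearMap.lTensor_comp_apply, LinearMap.fst_prod, LinearMap.lTensor_neg, LinearMap.neg_apply,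
          neg_eq_zero, LinearMap.lTensor_comp_apply] at e
        exact e
      have hz' : (φ.f (k + 1)).hom.lTensor K ((LinearMap.fst A _ _).lTensor K z) +
          (dLin Q (k + 1)).lTensor K ((LinearMap.snd A _ _).lTensor K z) = 0 := by
        rw [← LinearMap.lTensor_comp_apply, ← LinearMap.lTensor_comp_apply, ← LinearMap.add_apply,
          ← LinearMap.lTensor_add]
        have e : (LinearMap.snd A (P.complex.X k) (Q.complex.X (k + 1))).lTensor K
            ((LinearMap.prod (-(dLin P k ∘ₗ LinearMap.fst A _ _))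
              ((φ.f (k + 1)).hom.coprod (dLin Q (k + 1)))).lTensor K z) = 0 := h2.trans (map_zero _)
        rw [← LinearMap.lTensor_comp_apply, LinearMap.snd_prod] at e
        exact e
      obtain ⟨a', ha'⟩ := hinj k _ h1' (-((LinearMap.snd A _ _).lTensor K z))
        (by rw [map_neg]; exact (eq_neg_of_add_eq_zero_left hz').symm)
      obtain ⟨w, hw⟩ := step (k + 1) _ _ a' ha' hz'
      exact ⟨w, hw.trans (tensor_prod_decomp K z).symm⟩

end cone

end Groth.Agent.ResExact
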